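import Cfsg.Agent.H13.HSMult.Data

/-! The checks of the certificates for the Higman-Sims group. -/

set_option autoImplicit false
set_option maxRecDepth 100000

namespace Cfsg.Agent.H13.HSMult

open Cfsg.Agent.H13.SylMult

theorem pc2_ok : pc2.ok cert2 = true := by decide +kernel

theorem rows2_ok : cert2.rowsOk pc2 = true := by decide +kernel

theorem combos2_ok : cert2.combosOk pc2 = true := by decide +kernel

theorem perm2_ok : perm2.ok pc2 cert2 = true := by decide +kernel

theorem pc3_ok : pc3.ok cert3 = true := by decide +kernel

theorem rows3_ok : cert3.rowsOk pc3 = true := by decide +kernel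

theorem combos3_ok : cert3.combosOk pc3 = true := by decide +kernel

theorem perm3_ok : perm3.ok pc3 cert3 = true := by decide +kernel

theorem pc5_ok : pc5.ok cert5 = true := by decide +kernel

theorem rows5_ok : cert5.rowsOk pc5 = true := by decide +kernel

theorem combos5_ok : cert5.combosOk pc5 = true := by decide +kernel

theorem perm5_ok : perm5.ok pc5 cert5 = true := by decide +kernel

end Cfsg.Agent.H13.HSMult
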